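import Groth.Agent.Sga2lef.H526.FieldWE
import Groth.Agent.Sga2lef.H101.FTDepth
import Groth.Agent.Sga2lef.H134.DepthAt
import Groth.Agent.Sga4B.ConstLC

/-!
# Descent of the base field in the finite type statement on the étale depth

`FT_of_algClosure`: `FT (AlgebraicClosure k) n → FT k n` for `k` of characteristic zero;
`FT_of_isSeparable`: `FT K n → FT k n` for `K / k` separable algebraic.
-/

set_option autoImplicit false
universe u
open CategoryTheory CategoryTheory.Limits AlgebraicGeometry Opposite
open scoped TensorProduct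

namespace Groth.Agent.Sga2lef.H526.FTDesc

open FieldWE

theorem FT_of_isSeparable (k K : Type u) [Field k] [Field K] [Algebra k K] [Algebra.IsSeparable k K] (n : ℕ)
    (H : H101.FTDepth.FT K n) : H101.FTDepth.FT k n := by
  intro A _ _ _ q F z d hd
  have hW := weaklyEtale_β k K A F
  obtain ⟨z', hz'⟩ := (surjective_β k K A F).surj z
  have hN : IsNoetherianRing A := Algebra.FiniteType.isNoetherianRing k A
  have hN' : IsNoetherianRing (K ⊗[k] A) := Algebra.FiniteType.isNoetherianRing K (K ⊗[k] A)
  let P : Ideal (K ⊗[k] A) := (z' : PrimeSpectrum _).asIdeal.comap (Ideal.Quotient.mk (Ideal.span (Set.range (FK k K A F))))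
  have hP : P.IsPrime := Ideal.IsPrime.comap _
  have hPz : P.comap (Algebra.TensorProduct.includeRight : A →ₐ[k] K ⊗[k] A).toRingHom =
      (z : PrimeSpectrum (A ⧸ Ideal.span (Set.range F))).asIdeal.comap
        (Ideal.Quotient.mk (Ideal.span (Set.range F))) := by
    rw [← hz', Ideal.comap_comap]
    change _ = ((z' : PrimeSpectrum _).asIdeal.comap (β k K A F)).comap _
    rw [Ideal.comap_comap, β_comp]
  have hd' : (d : ℕ∞) ≤ P.height := by
    refine hd.trans ?_
    rw [← hPz]
    exact height_le k K A P
  have h1 := H (K ⊗[k] A) q (FK k K A F) z' d hd'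
  have h2 := H134.DepthAt.DepthAtGE.of_iso
    (Groth.Agent.Sga4B.ConstLC.pullConstIso (Spec.map (CommRingCat.ofHom (β k K A F))) (ZMod n)).symm h1
  have h3 := (H134.DepthAt.depthAtGE_pull_iff (Spec.map (CommRingCat.ofHom (β k K A F))) _ z' (d - q)).1 h2
  rw [← hz']
  exact h3

theorem FT_of_algClosure (k : Type u) [Field k] [CharZero k] (n : ℕ)
    (H : H101.FTDepth.FT (AlgebraicClosure k) n) : H101.FTDepth.FT k n :=
  FT_of_isSeparable k (AlgebraicClosure k) n H

end Groth.Agent.Sga2lef.H526.FTDesc
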