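import Groth.Agent.Etalg.SepElt
import Mathlib.AlgebraicGeometry.Morphisms.WeaklyEtale
import Mathlib.AlgebraicGeometry.Morphisms.UnderlyingMap
import Mathlib.RingTheory.Etale.Field
import Mathlib.RingTheory.TensorProduct.Quotient
import Mathlib.FieldTheory.IsAlgClosed.AlgebraicClosure
import Mathlib.RingTheory.Ideal.KrullsHeightTheorem
import Mathlib.RingTheory.Flat.FaithfullyFlat.Algebra

/-!
# Base change along a separable algebraic extension of fields

`K / k` separable algebraic, `A` a `k`-algebra, `F_1, …, F_q ∈ A`: `K ⊗ A / (1 ⊗ F)` is weakly étale over `A / (F)`.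
-/

set_option autoImplicit false
universe u
open CategoryTheory CategoryTheory.Limits AlgebraicGeometry
open scoped TensorProduct

namespace Groth.Agent.Sga2lef.H526.FieldWE

/-- A separable algebraic extension of fields is weakly étale. -/
theorem weaklyEtale_of_isSeparable (k K : Type u) [Field k] [Field K] [Algebra k K] [Algebra.IsSeparable k K] :
    Algebra.WeaklyEtale k K := by
  rw [Groth.Agent.Etalg.SepElt.weaklyEtale_iff]
  refine ⟨inferInstance, eq_top_iff.2 fun x _ => ?_⟩
  let E : IntermediateField k K := IntermediateField.adjoin k {x}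
  have h1 : FiniteDimensional k E := IntermediateField.adjoin.finiteDimensional (Algebra.IsIntegral.isIntegral x)
  have h2 : Algebra.IsSeparable k E := inferInstance
  have h3 : Algebra.FormallyEtale k E := Algebra.FormallyEtale.of_isSeparable k E
  have h4 : Algebra.FinitePresentation k E := Algebra.FinitePresentation.of_finiteType.1 inferInstance
  have h5 : Algebra.Etale k E := ⟨h3, h4⟩
  have h6 : Algebra.Etale k E.toSubalgebra := h5
  exact Groth.Agent.Etalg.SepElt.le_sepElt_of_etale E.toSubalgebra
    (IntermediateField.mem_adjoin_simple_self k x)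

theorem weaklyEtale_specMap {A B : Type u} [CommRing A] [CommRing B] [Algebra A B] [h : Algebra.WeaklyEtale A B] :
    WeaklyEtale (Spec.map (CommRingCat.ofHom (algebraMap A B))) := by
  refine ⟨?_, ?_⟩
  · rw [Flat.SpecMap_iff]
    exact (RingHom.flat_algebraMap_iff).mpr h.flat
  · rw [diagonal_SpecMap]
    have h2 : Flat (Spec.map (CommRingCat.ofHom (Algebra.TensorProduct.lmul' A :
        TensorProduct A B B →ₐ[A] B).toRingHom)) := by
      rw [Flat.SpecMap_iff]
      exact ((Algebra.weaklyEtale_iff A B).1 h).2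
    infer_instance

/-- `Spec` of a tensor product. -/
theorem isPullback_tensor (R A B : Type u) [CommRing R] [CommRing A] [CommRing B] [Algebra R A] [Algebra R B] :
    IsPullback (Spec.map (CommRingCat.ofHom (Algebra.TensorProduct.includeLeftRingHom : A →+* A ⊗[R] B)))
      (Spec.map (CommRingCat.ofHom (Algebra.TensorProduct.includeRight : B →ₐ[R] A ⊗[R] B).toRingHom))
      (Spec.map (CommRingCat.ofHom (algebraMap R A))) (Spec.map (CommRingCat.ofHom (algebraMap R B))) :=
  ((CommRingCat.isPushout_tensorProduct R A B).op.map Scheme.Spec).flip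

section

variable (k K A : Type u) [Field k] [Field K] [Algebra k K] [CommRing A] [Algebra k A] {q : ℕ} (F : Fin q → A)

/-- The equations after base change. -/
def FK : Fin q → K ⊗[k] A := fun i => (Algebra.TensorProduct.includeRight : A →ₐ[k] K ⊗[k] A) (F i)

theorem map_span : (Ideal.span (Set.range F)).map (Algebra.TensorProduct.includeRight : A →ₐ[k] K ⊗[k] A).toRingHom =
    Ideal.span (Set.range (FK k K A F)) := by
  rw [Ideal.map_span]
  congr 1
  ext x
  constructor
  · rintro ⟨_, ⟨i, rfl⟩, rfl⟩
    exact ⟨i, rfl⟩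
  · rintro ⟨i, rfl⟩
    exact ⟨_, ⟨i, rfl⟩, rfl⟩

section Quot

variable {A B : Type u} [CommRing A] [CommRing B] (φ : A →+* B) (I : Ideal A) (J : Ideal B) (hJ : I.map φ = J)

/-- `A / I → B / I B`. -/
noncomputable def qm : A ⧸ I →+* B ⧸ J := Ideal.quotientMap J φ (by rw [← Ideal.map_le_iff_le_comap, hJ])

theorem isPullback_quot : IsPullback (Spec.map (CommRingCat.ofHom (Ideal.Quotient.mk J)))
    (Spec.map (CommRingCat.ofHom (qm φ I J hJ))) (Spec.map (CommRingCat.ofHom φ))
    (Spec.map (CommRingCat.ofHom (Ideal.Quotient.mk I))) := by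
  subst hJ
  let _ : Algebra A B := φ.toAlgebra
  let e := (Algebra.TensorProduct.quotIdealMapEquivTensorQuot B I).symm
  have h := CommRingCat.isPushout_tensorProduct A B (A ⧸ I)
  have h2 : IsPushout (CommRingCat.ofHom φ) (CommRingCat.ofHom (Ideal.Quotient.mk I))
      (CommRingCat.ofHom (Ideal.Quotient.mk (I.map φ))) (CommRingCat.ofHom (qm φ I _ rfl)) :=
    h.of_iso (Iso.refl _) (Iso.refl _) (Iso.refl _) e.toRingEquiv.toCommRingCatIso (by simp) (by simp)
      (by
        ext b
        change e (b ⊗ₜ[A] (1 : A ⧸ I)) = Ideal.Quotient.mk _ b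
        rw [AlgEquiv.symm_apply_eq]
        rfl)
      (by
        ext a
        change e ((1 : B) ⊗ₜ[A] (Ideal.Quotient.mk I a)) = Ideal.Quotient.mk _ (φ a)
        rw [AlgEquiv.symm_apply_eq]
        change _ = (φ a) ⊗ₜ[A] (1 : A ⧸ I)
        have h1 : φ a = a • (1 : B) := (Algebra.algebraMap_eq_smul_one a)
        have h2 : (Ideal.Quotient.mk I a) = a • (1 : A ⧸ I) := (Algebra.algebraMap_eq_smul_one a)
        rw [h1, h2, TensorProduct.tmul_smul, TensorProduct.smul_tmul'])
  exact (h2.op.map Scheme.Spec).flip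

end Quot

/-- The ring homomorphism `A / (F) → K ⊗ A / (1 ⊗ F)`. -/
noncomputable def β : (A ⧸ Ideal.span (Set.range F)) →+* (K ⊗[k] A) ⧸ Ideal.span (Set.range (FK k K A F)) :=
  qm _ _ _ (map_span k K A F)

theorem β_comp : (β k K A F).comp (Ideal.Quotient.mk _) =
    (Ideal.Quotient.mk _).comp (Algebra.TensorProduct.includeRight : A →ₐ[k] K ⊗[k] A).toRingHom := by
  ext x
  rfl

theorem weaklyEtale_β [Algebra.IsSeparable k K] : WeaklyEtale (Spec.map (CommRingCat.ofHom (β k K A F))) := by
  have h0 : Algebra.WeaklyEtale k K := weaklyEtale_of_isSeparable k K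
  have h1 : WeaklyEtale (Spec.map (CommRingCat.ofHom (algebraMap k K))) := weaklyEtale_specMap
  have h2 := MorphismProperty.of_isPullback (P := @WeaklyEtale) (isPullback_tensor k K A) h1
  exact MorphismProperty.of_isPullback (P := @WeaklyEtale) (isPullback_quot _ _ _ (map_span k K A F)) h2

theorem surjective_β : Surjective (Spec.map (CommRingCat.ofHom (β k K A F))) := by
  have h1 : Surjective (Spec.map (CommRingCat.ofHom (algebraMap k K))) := by
    refine ⟨fun x => ⟨IsLocalRing.closedPoint K, ?_⟩⟩
    exact @Subsingleton.elim (PrimeSpectrum k) _ _ _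
  have h2 := MorphismProperty.of_isPullback (P := @Surjective) (isPullback_tensor k K A) h1
  exact MorphismProperty.of_isPullback (P := @Surjective) (isPullback_quot _ _ _ (map_span k K A F)) h2

attribute [local instance] Algebra.TensorProduct.rightAlgebra in
theorem height_le [IsNoetherianRing A] [IsNoetherianRing (K ⊗[k] A)] (P : Ideal (K ⊗[k] A)) [P.IsPrime] :
    (P.comap (Algebra.TensorProduct.includeRight : A →ₐ[k] K ⊗[k] A).toRingHom).height ≤ P.height := by
  have h0 : P.LiesOver (P.comap (Algebra.TensorProduct.includeRight : A →ₐ[k] K ⊗[k] A).toRingHom) := ⟨rfl⟩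
  have h2 : Flat (Spec.map (CommRingCat.ofHom (algebraMap k K))) := by
    rw [Flat.SpecMap_iff]
    exact (RingHom.flat_algebraMap_iff).mpr inferInstance
  have h3 := MorphismProperty.of_isPullback (P := @Flat) (isPullback_tensor k K A) h2
  rw [Flat.SpecMap_iff] at h3
  have h4 : Module.Flat A (K ⊗[k] A) := h3
  have h1 := Ideal.height_eq_height_add_of_liesOver_of_hasGoingDown
    (P.comap (Algebra.TensorProduct.includeRight : A →ₐ[k] K ⊗[k] A).toRingHom) P
  rw [h1]
  exact le_self_add

end

end Groth.Agent.Sga2lef.H526.FieldWE
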